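import Cfsg.Agent.Lib.McLUnique.Cert.Bad.Part0
import Cfsg.Agent.Lib.McLUnique.Cert.Bad.Part1
import Cfsg.Agent.Lib.McLUnique.Cert.Bad.Part2
import Cfsg.Agent.Lib.McLUnique.Cert.Bad.Part3

/-! Generated: the words fix the base point. -/
set_option autoImplicit false
set_option maxRecDepth 100000
set_option Elab.async false

namespace CfsgLib.McLUnique.Cert.Bad

open CfsgLib.Presented

theorem facts_ok : enum.OKOn 0 23829 :=
  (((part0).append part1).append part2).append part3

theorem loop0 {G : Type*} [Group G] {X : Type*} [MulAction G X] {ev : ℕ → G} {base : X}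
    (hI : enum.Interp ev base) : evW ev [12] • base = base := by
  obtain ⟨s', hs⟩ := Option.isSome_iff_exists.1
    (show (enum.chkPath 23829 0 0 0x2e8a400001 [12]).isSome = true by decide +kernel)
  simpa using Enum.loop enum_valid hI facts_ok hs

theorem loops {G : Type*} [Group G] {X : Type*} [MulAction G X] {ev : ℕ → G} {base : X}
    (hI : enum.Interp ev base) : ∀ w ∈ loopWords, evW ev w • base = base := by
  unfold loopWords
  simp only [List.forall_mem_cons]
  exact ⟨loop0 hI, List.forall_mem_nil _⟩

end CfsgLib.McLUnique.Cert.Bad
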